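import Mathlib
import Groth.Agent.FieldExtLib.Imperfection

/-! An Artinian local algebra formally smooth over a field is a field. -/

namespace Groth.Agent.ArtSmooth

universe u v

open IsLocalRing Polynomial

theorem maximalIdeal_eq_bot {k₀ : Type u} {C : Type v} [Field k₀] [PerfectField k₀] [CommRing C] [Algebra k₀ C]
    [IsLocalRing C] [IsArtinianRing C] [Algebra.FormallySmooth k₀ C] : maximalIdeal C = ⊥ := by
  classical
  by_contra hne
  haveI : Algebra.FormallySmooth k₀ (ResidueField C) :=
    Groth.Agent.FieldExtLib.formallySmooth_field_of_perfectField k₀ _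
  obtain ⟨N, hN⟩ : IsNilpotent (maximalIdeal C) := by
    rw [← IsLocalRing.jacobson_eq_maximalIdeal ⊥ bot_ne_top]; exact IsArtinianRing.isNilpotent_jacobson_bot
  let L := ResidueField C
  let π : C →ₐ[k₀] L := IsScalarTower.toAlgHom k₀ C L
  have hπ : Function.Surjective π := IsLocalRing.residue_surjective
  have hker : ∀ x : C, π x = 0 ↔ x ∈ maximalIdeal C := fun x => IsLocalRing.residue_eq_zero_iff x
  let σ : L →ₐ[k₀] C := Algebra.FormallySmooth.liftOfSurjective (AlgHom.id k₀ L) π hπ
    ⟨N, eq_bot_iff.mpr (le_trans (Ideal.pow_right_mono (fun x hx => (hker x).mp hx) N) hN.le)⟩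
  have hσ : ∀ l, π (σ l) = l := fun l => Algebra.FormallySmooth.liftOfSurjective_apply _ _ _ _ l
  letI : Algebra L C := σ.toRingHom.toAlgebra
  have hsm : ∀ (l : L) (x : C), l • x = σ l * x := fun l x => rfl
  let m : Submodule L C :=
    { carrier := maximalIdeal C
      zero_mem' := zero_mem _
      add_mem' := fun h h' => add_mem h h'
      smul_mem' := fun l x hx => by
        rw [hsm]; exact Ideal.mul_mem_left (maximalIdeal C) _ hx }
  let m2 : Submodule L C :=
    { carrier := ((maximalIdeal C) ^ 2 : Ideal C)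
      zero_mem' := zero_mem _
      add_mem' := fun h h' => add_mem h h'
      smul_mem' := fun l x hx => by
        rw [hsm]; exact Ideal.mul_mem_left ((maximalIdeal C) ^ 2) _ hx }
  obtain ⟨u, hu, hu2⟩ : ∃ u ∈ maximalIdeal C, u ∉ (maximalIdeal C) ^ 2 := by
    by_contra hcon
    push Not at hcon
    have hpow : ∀ j : ℕ, maximalIdeal C ≤ (maximalIdeal C) ^ (j + 1) := fun j => by
      induction j with
      | zero => rw [zero_add, pow_one]
      | succ j ih =>
        calc maximalIdeal C ≤ (maximalIdeal C) ^ 2 := hcon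
          _ = maximalIdeal C * maximalIdeal C := sq _
          _ ≤ (maximalIdeal C) ^ (j + 1) * maximalIdeal C := Ideal.mul_mono_left ih
          _ = (maximalIdeal C) ^ (j + 1 + 1) := (pow_succ _ _).symm
    exact hne (eq_bot_iff.mpr ((hpow N).trans (le_trans (Ideal.pow_le_pow_right (Nat.le_succ N)) hN.le)))
  obtain ⟨ψ, hψu, hψ2⟩ := Submodule.exists_le_ker_of_notMem (p := m2) (show u ∉ m2 from hu2)
  let φ₀ : C → DualNumber L := fun x =>
    TrivSqZeroExt.inl (π x) + TrivSqZeroExt.inr ((ψ u)⁻¹ * ψ (x - σ (π x)))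
  have hmul : ∀ x y, ψ (x * y - σ (π (x * y))) = π x * ψ (y - σ (π y)) + π y * ψ (x - σ (π x)) := fun x y => by
    have hd : ∀ z, z - σ (π z) ∈ maximalIdeal C := fun z => (hker _).mp (by rw [map_sub, hσ, sub_self])
    have h2 : ψ ((x - σ (π x)) * (y - σ (π y))) = 0 :=
      hψ2 (show (x - σ (π x)) * (y - σ (π y)) ∈ (maximalIdeal C) ^ 2 by
        rw [pow_two]; exact Ideal.mul_mem_mul (hd x) (hd y))
    rw [show x * y - σ (π (x * y)) = π x • (y - σ (π y)) + π y • (x - σ (π x)) +
      (x - σ (π x)) * (y - σ (π y)) by rw [map_mul π, map_mul σ, hsm, hsm]; ring, map_add, map_add, h2,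
      add_zero, map_smul, map_smul, smul_eq_mul, smul_eq_mul]
  let φ : C →ₐ[k₀] DualNumber L :=
    { toFun := φ₀
      map_one' := by ext <;> simp [φ₀]
      map_mul' := fun x y => by
        ext
        · simp [φ₀]
        · simp only [φ₀, hmul, TrivSqZeroExt.snd_add, TrivSqZeroExt.snd_inl, TrivSqZeroExt.snd_inr, zero_add,
            TrivSqZeroExt.snd_mul, TrivSqZeroExt.fst_add, TrivSqZeroExt.fst_inl, TrivSqZeroExt.fst_inr, add_zero,
            smul_eq_mul, op_smul_eq_mul]
          ring
      map_zero' := by ext <;> simp [φ₀]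
      map_add' := fun x y => by
        ext
        · simp only [φ₀, map_add, TrivSqZeroExt.fst_add, TrivSqZeroExt.fst_inl, TrivSqZeroExt.fst_inr, add_zero]
        · simp only [φ₀, map_add, TrivSqZeroExt.snd_add, TrivSqZeroExt.snd_inl, TrivSqZeroExt.snd_inr, zero_add]
          rw [add_sub_add_comm, map_add, mul_add]
      commutes' := fun r => by ext <;> simp [φ₀, TrivSqZeroExt.algebraMap_eq_inl'] }
  let J : Ideal L[X] := Ideal.span {(X : L[X]) ^ (N + 2)}
  let q : L[X] ⧸ J →ₐ[k₀] DualNumber L := (Ideal.Quotient.liftₐ J (Polynomial.aeval (DualNumber.eps : DualNumber L))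
    (fun p hp => by
      obtain ⟨c, rfl⟩ := Ideal.mem_span_singleton'.mp hp
      rw [map_mul, map_pow, Polynomial.aeval_X, pow_succ', pow_succ', ← mul_assoc (DualNumber.eps : DualNumber L),
        DualNumber.eps_mul_eps, zero_mul, mul_zero])).restrictScalars k₀
  have haev : ∀ p : L[X], TrivSqZeroExt.fst (Polynomial.aeval (DualNumber.eps : DualNumber L) p) = p.coeff 0 ∧
      TrivSqZeroExt.snd (Polynomial.aeval (DualNumber.eps : DualNumber L) p) = p.coeff 1 := fun p => by
    induction p using Polynomial.induction_on' with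
    | add p p' h h' => simp [h.1, h.2, h'.1, h'.2]
    | monomial j c =>
      rcases j with _ | _ | j
      · simp [TrivSqZeroExt.algebraMap_eq_inl']
      · simp [TrivSqZeroExt.algebraMap_eq_inl']
      · rw [Polynomial.aeval_monomial, pow_succ', pow_succ', ← mul_assoc (DualNumber.eps : DualNumber L),
          DualNumber.eps_mul_eps, zero_mul, mul_zero]
        simp [Polynomial.coeff_monomial]
  have hq : Function.Surjective q := fun z =>
    ⟨Ideal.Quotient.mk J (Polynomial.C z.fst + Polynomial.C z.snd * X), TrivSqZeroExt.ext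
      ((haev _).1.trans (by simp)) ((haev _).2.trans (by simp))⟩
  have hqn : IsNilpotent (RingHom.ker (q : L[X] ⧸ J →+* DualNumber L)) := by
    have hle : RingHom.ker (q : L[X] ⧸ J →+* DualNumber L) ≤ Ideal.span {Ideal.Quotient.mk J (X ^ 2)} := by
      intro z hz
      obtain ⟨p, rfl⟩ := Ideal.Quotient.mk_surjective z
      have hz' : Polynomial.aeval (DualNumber.eps : DualNumber L) p = 0 := hz
      obtain ⟨c, hc⟩ : X ^ 2 ∣ p := Polynomial.X_pow_dvd_iff.mpr fun d hd => by
        interval_cases d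
        · rw [← (haev p).1, hz']; rfl
        · rw [← (haev p).2, hz']; rfl
      exact Ideal.mem_span_singleton'.mpr ⟨Ideal.Quotient.mk J c, by rw [← map_mul, hc, mul_comm]⟩
    refine ⟨N + 2, eq_bot_iff.mpr ((Ideal.pow_right_mono hle _).trans ?_)⟩
    rw [Ideal.span_singleton_pow, Ideal.span_singleton_le_iff_mem, Ideal.mem_bot, ← map_pow,
      Ideal.Quotient.eq_zero_iff_mem, ← pow_mul]
    exact Ideal.mem_span_singleton.mpr (pow_dvd_pow _ (by omega))
  let g := Algebra.FormallySmooth.liftOfSurjective φ q hq hqn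
  obtain ⟨p, hp⟩ := Ideal.Quotient.mk_surjective (g u)
  have hgu : Polynomial.aeval (DualNumber.eps : DualNumber L) p = φ u := by
    have h := Algebra.FormallySmooth.liftOfSurjective_apply φ q hq hqn u
    rw [← hp] at h
    exact h
  have h0 : p.coeff 0 = 0 := by
    rw [← (haev p).1, hgu]
    simp [φ, φ₀, (hker u).mpr hu]
  have h1 : p.coeff 1 = 1 := by
    rw [← (haev p).2, hgu]
    simp [φ, φ₀, (hker u).mpr hu, inv_mul_cancel₀ hψu]
  obtain ⟨c, rfl⟩ := Polynomial.X_dvd_iff.mpr h0
  rw [Polynomial.coeff_X_mul] at h1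
  have hz : g (u ^ (N + 1)) = 0 := by
    rw [show u ^ (N + 1) = 0 from by
      have h := Ideal.pow_le_pow_right (Nat.le_succ N) (Ideal.pow_mem_pow hu (N + 1))
      rw [hN] at h
      exact h, map_zero]
  rw [map_pow, ← hp, ← map_pow, Ideal.Quotient.eq_zero_iff_mem, Ideal.mem_span_singleton, mul_pow,
    show N + 2 = N + 1 + 1 from rfl, pow_succ (X : L[X]) (N + 1),
    mul_dvd_mul_iff_left (pow_ne_zero _ Polynomial.X_ne_zero), Polynomial.X_dvd_iff,
    Polynomial.coeff_zero_eq_eval_zero, eval_pow, ← Polynomial.coeff_zero_eq_eval_zero, h1, one_pow] at hz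
  exact one_ne_zero hz

end Groth.Agent.ArtSmooth
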